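/-
The product of two nontrivial classes of a projective special linear group is not a single class:
the trace of a product of conjugates takes every value.
-/
import Mathlib

set_option autoImplicit false

namespace CfsgLib.Classical.ClassProd

open Matrix

variable {F : Type*} [Field F] {d : ℕ}

theorem exists_functional (U : Submodule F (Fin d → F)) {u : Fin d → F} (hu : u ∉ U) :
    ∃ φ : Fin d → F, (∀ z ∈ U, φ ⬝ᵥ z = 0) ∧ φ ⬝ᵥ u = 1 := by
  obtain ⟨f, hf, hU⟩ := U.exists_dual_map_eq_bot_of_notMem hu inferInstance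
  refine ⟨(dotProductEquiv F (Fin d)).symm ((f u)⁻¹ • f), fun z hz => ?_, ?_⟩
  · have h := LinearMap.congr_fun ((dotProductEquiv F (Fin d)).apply_symm_apply ((f u)⁻¹ • f)) z
    have hz0 : f z = 0 := by
      have : f z ∈ U.map f := ⟨z, hz, rfl⟩
      rwa [hU, Submodule.mem_bot] at this
    have e : ((f u)⁻¹ • f) z = 0 := by rw [LinearMap.smul_apply, hz0, smul_zero]
    exact h.trans e
  · have h := LinearMap.congr_fun ((dotProductEquiv F (Fin d)).apply_symm_apply ((f u)⁻¹ • f)) u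
    exact h.trans (inv_mul_cancel₀ hf)

/-- The transvection attached to a vector and a vector orthogonal to it. -/
def trans (v φ : Fin d → F) (h : φ ⬝ᵥ v = 0) : SpecialLinearGroup (Fin d) F :=
  ⟨1 + vecMulVec v φ, by
    rw [vecMulVec_eq Unit, det_one_add_replicateCol_mul_replicateRow, h, add_zero]⟩

theorem coe_trans (v φ : Fin d → F) (h : φ ⬝ᵥ v = 0) :
    (trans v φ h : Matrix (Fin d) (Fin d) F) = 1 + vecMulVec v φ := rfl

theorem coe_trans_inv (v φ : Fin d → F) (h : φ ⬝ᵥ v = 0) :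
    (((trans v φ h)⁻¹ : SpecialLinearGroup (Fin d) F) : Matrix (Fin d) (Fin d) F) = 1 - vecMulVec v φ := by
  have hN : vecMulVec v φ * vecMulVec v φ = 0 := by
    rw [vecMulVec_mul_vecMulVec, h, zero_smul]
    ext i j; simp [vecMulVec_apply]
  have h' : (-φ) ⬝ᵥ v = 0 := by rw [neg_dotProduct, h, neg_zero]
  have e : (trans v φ h)⁻¹ = trans v (-φ) h' := by
    refine inv_eq_of_mul_eq_one_right (Subtype.ext ?_)
    show (1 + vecMulVec v φ) * (1 + vecMulVec v (-φ)) = 1
    rw [vecMulVec_neg]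
    have e : (1 + vecMulVec v φ) * (1 + -vecMulVec v φ) = 1 - vecMulVec v φ * vecMulVec v φ := by noncomm_ring
    rw [e, hN, sub_zero]
  rw [e, coe_trans, vecMulVec_neg, sub_eq_add_neg]

theorem trans_mulVec (v φ w : Fin d → F) : (1 + vecMulVec v φ) *ᵥ w = w + (φ ⬝ᵥ w) • v := by
  rw [add_mulVec, one_mulVec, vecMulVec_mulVec]
  ext i
  simp [mul_comm]

theorem trans_inv_mulVec (v φ w : Fin d → F) : (1 - vecMulVec v φ) *ᵥ w = w - (φ ⬝ᵥ w) • v := by
  rw [sub_mulVec, one_mulVec, vecMulVec_mulVec]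
  ext i
  simp [mul_comm]

theorem trace_vecMulVec_mul (v φ : Fin d → F) (M : Matrix (Fin d) (Fin d) F) :
    (vecMulVec v φ * M).trace = φ ⬝ᵥ M *ᵥ v := by
  rw [vecMulVec_mul, trace_vecMulVec, dotProduct_comm, dotProduct_mulVec]

/-- The trace along a transvection is linear as soon as the quadratic term vanishes. -/
theorem trace_line (A B : Matrix (Fin d) (Fin d) F) (v φ : Fin d → F)
    (hq : φ ⬝ᵥ A *ᵥ v = 0 ∨ φ ⬝ᵥ B *ᵥ v = 0) :
    ((1 + vecMulVec v φ) * A * (1 - vecMulVec v φ) * B).trace =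
      (A * B).trace + φ ⬝ᵥ (A * B - B * A) *ᵥ v := by
  have e : (1 + vecMulVec v φ) * A * (1 - vecMulVec v φ) * B =
      A * B + vecMulVec v φ * (A * B) - A * vecMulVec v φ * B - vecMulVec v φ * (A * vecMulVec v φ * B) := by
    noncomm_ring
  rw [e, trace_sub, trace_sub, trace_add, trace_vecMulVec_mul, trace_vecMulVec_mul,
    trace_mul_cycle A (vecMulVec v φ) B, trace_mul_comm (B * A), trace_vecMulVec_mul]
  have h2 : φ ⬝ᵥ (A * vecMulVec v φ * B) *ᵥ v = 0 := by
    rw [mul_vecMulVec, vecMulVec_mul, vecMulVec_mulVec, ← dotProduct_mulVec]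
    rcases hq with hq | hq <;> simp [hq]
  rw [h2, sub_mulVec, dotProduct_sub]
  ring

theorem span_pair_ne_top (hd : 3 ≤ d) (v w : Fin d → F) : Submodule.span F ({v, w} : Set (Fin d → F)) ≠ ⊤ := by
  classical
  intro h
  have h1 := finrank_span_le_card (R := F) ({v, w} : Set (Fin d → F))
  rw [h, finrank_top, Module.finrank_fin_fun] at h1
  have h2 : ({v, w} : Set (Fin d → F)).toFinset.card ≤ 2 := by
    rw [Set.toFinset_insert, Set.toFinset_singleton]; exact Finset.card_le_two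
  omega

/-- The special linear group moves any independent pair to any other one. -/
theorem exists_sl_map (hd : 3 ≤ d) {w w' v x : Fin d → F} (h1 : LinearIndependent F ![w, w'])
    (h2 : LinearIndependent F ![v, x]) :
    ∃ g : SpecialLinearGroup (Fin d) F, (g : Matrix (Fin d) (Fin d) F) *ᵥ w = v ∧ (g : Matrix (Fin d) (Fin d) F) *ᵥ w' = x := by
  classical
  set b : Module.Basis (Fin 2 ⊕ Module.Basis.sumExtendIndex h1) F (Fin d → F) := Module.Basis.sumExtend h1 with hb
  set c : Module.Basis (Fin 2 ⊕ Module.Basis.sumExtendIndex h2) F (Fin d → F) := Module.Basis.sumExtend h2 with hc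
  have hfb : Fintype (Fin 2 ⊕ Module.Basis.sumExtendIndex h1) := FiniteDimensional.fintypeBasisIndex b
  have hfc : Fintype (Fin 2 ⊕ Module.Basis.sumExtendIndex h2) := FiniteDimensional.fintypeBasisIndex c
  letI : Fintype (Module.Basis.sumExtendIndex h1) := Fintype.sumRight (α := Fin 2)
  letI : Fintype (Module.Basis.sumExtendIndex h2) := Fintype.sumRight (α := Fin 2)
  have cb := Module.finrank_eq_card_basis b
  have cc := Module.finrank_eq_card_basis c
  rw [Module.finrank_fin_fun, ← Nat.card_eq_fintype_card, Nat.card_sum, Nat.card_fin] at cb cc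
  obtain ⟨e⟩ : Nonempty (Module.Basis.sumExtendIndex h1 ≃ Module.Basis.sumExtendIndex h2) :=
    ⟨Fintype.equivOfCardEq (by rw [← Nat.card_eq_fintype_card, ← Nat.card_eq_fintype_card]; omega)⟩
  let g₀ := b.equiv c ((Equiv.refl (Fin 2)).sumCongr e)
  have hne : LinearMap.det (g₀ : (Fin d → F) →ₗ[F] (Fin d → F)) ≠ 0 := (LinearEquiv.isUnit_det' g₀).ne_zero
  obtain ⟨i₀⟩ : Nonempty (Module.Basis.sumExtendIndex h2) := Fintype.card_pos_iff.1 (by rw [← Nat.card_eq_fintype_card]; omega)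
  let s : Fin 2 ⊕ Module.Basis.sumExtendIndex h2 → F :=
    Function.update (fun _ => (1 : F)) (Sum.inr i₀) (LinearMap.det (g₀ : (Fin d → F) →ₗ[F] (Fin d → F)))⁻¹
  let D : (Fin d → F) →ₗ[F] (Fin d → F) := c.constr F fun i => s i • c i
  have hD : LinearMap.det D = ∏ i, s i := by
    rw [← LinearMap.det_toMatrix c, show LinearMap.toMatrix c c D = Matrix.diagonal s from ?_, det_diagonal]
    ext i j
    rw [LinearMap.toMatrix_apply, Module.Basis.constr_basis, map_smul, Module.Basis.repr_self, Finsupp.smul_single]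
    by_cases hij : i = j
    · subst hij; simp
    · simp [hij, Finsupp.single_eq_of_ne hij]
  let g := D ∘ₗ (g₀ : (Fin d → F) →ₗ[F] (Fin d → F))
  have hdet : LinearMap.det g = 1 := by
    rw [LinearMap.det_comp, hD, Finset.prod_update_of_mem (Finset.mem_univ _)]
    simp [hne]
  have hm : ∀ k : Fin 2, g (b (Sum.inl k)) = c (Sum.inl k) := fun k => by
    simp [g, g₀, D, s, Module.Basis.equiv_apply]
  have hbe : ∀ k, b (Sum.inl k) = ![w, w'] k := fun k => by simp [hb, Module.Basis.sumExtend]; rfl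
  have hce : ∀ k, c (Sum.inl k) = ![v, x] k := fun k => by simp [hc, Module.Basis.sumExtend]; rfl
  refine ⟨⟨LinearMap.toMatrix' g, by rw [LinearMap.det_toMatrix', hdet]⟩, ?_, ?_⟩
  · show LinearMap.toMatrix' g *ᵥ w = v
    rw [LinearMap.toMatrix'_mulVec]
    simpa [hbe, hce] using hm 0
  · show LinearMap.toMatrix' g *ᵥ w' = x
    rw [LinearMap.toMatrix'_mulVec]
    simpa [hbe, hce] using hm 1

/-- A matrix which is not scalar has a vector which is not an eigenvector. -/
theorem exists_pair {A : Matrix (Fin d) (Fin d) F} (hA : ∀ c : F, A ≠ c • 1) :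
    ∃ w, LinearIndependent F ![w, A *ᵥ w] := by
  by_contra h
  push Not at h
  obtain ⟨a, ha⟩ := LinearMap.exists_eq_smul_id_of_forall_notLinearIndependent (f := Matrix.toLin' A)
    (fun v => by rw [Matrix.toLin'_apply]; exact h v)
  refine hA a (Matrix.toLin'.injective ?_)
  rw [ha, map_smul, Matrix.toLin'_one]
  rfl

/-- The trace of a product of conjugates takes every value. -/
theorem exists_trace_eq (hd : 3 ≤ d) (A B : SpecialLinearGroup (Fin d) F) (hA : ∀ c : F, (A : Matrix (Fin d) (Fin d) F) ≠ c • 1)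
    (hB : ∀ c : F, (B : Matrix (Fin d) (Fin d) F) ≠ c • 1) (t : F) :
    ∃ g : SpecialLinearGroup (Fin d) F, (((g * A * g⁻¹ * B : SpecialLinearGroup (Fin d) F) : Matrix (Fin d) (Fin d) F)).trace = t := by
  obtain ⟨w, hw⟩ := exists_pair hA
  obtain ⟨v, hv⟩ := exists_pair hB
  obtain ⟨x, hx⟩ : ∃ x, x ∉ Submodule.span F ({v, (B : Matrix (Fin d) (Fin d) F) *ᵥ v} : Set (Fin d → F)) := by
    by_contra h
    push Not at h
    exact span_pair_ne_top hd v _ (eq_top_iff.2 fun z _ => h z)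
  have hv0 : v ≠ 0 := fun e => by
    have := hv.ne_zero 0
    simp [e] at this
  have hxv : ∀ a : F, a • v ≠ x := fun a e => hx (e ▸ Submodule.smul_mem _ a (Submodule.subset_span (by simp)))
  have hBv : (B : Matrix (Fin d) (Fin d) F) *ᵥ v ∉ Submodule.span F ({v, x} : Set (Fin d → F)) := by
    intro h
    obtain ⟨a, b, hab⟩ := Submodule.mem_span_pair.1 h
    by_cases hb : b = 0
    · rw [hb, zero_smul, add_zero] at hab
      exact (LinearIndependent.pair_iff' hv0).1 hv a hab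
    · refine hx (Submodule.mem_span_pair.2 ⟨-(a / b), 1 / b, ?_⟩)
      rw [← hab, smul_add, smul_smul, smul_smul, one_div, inv_mul_cancel₀ hb, one_smul, ← add_assoc, ← add_smul,
        show -(a / b) + b⁻¹ * a = 0 by field_simp; ring, zero_smul, zero_add]
  obtain ⟨g, hgw, hgx⟩ := exists_sl_map hd hw ((LinearIndependent.pair_iff' hv0).2 hxv)
  have hA1 : ((g * A * g⁻¹ : SpecialLinearGroup (Fin d) F) : Matrix (Fin d) (Fin d) F) *ᵥ v = x := by
    have h1 : ((g⁻¹ : SpecialLinearGroup (Fin d) F) : Matrix (Fin d) (Fin d) F) *ᵥ v = w := by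
      rw [← hgw, mulVec_mulVec, ← Matrix.SpecialLinearGroup.coe_mul, inv_mul_cancel, Matrix.SpecialLinearGroup.coe_one, one_mulVec]
    rw [Matrix.SpecialLinearGroup.coe_mul, Matrix.SpecialLinearGroup.coe_mul, ← mulVec_mulVec, h1, ← mulVec_mulVec, hgx]
  obtain ⟨φ, hφ, hφB⟩ := exists_functional _ hBv
  have hφv : φ ⬝ᵥ v = 0 := hφ v (Submodule.subset_span (by simp))
  have hφx : φ ⬝ᵥ x = 0 := hφ x (Submodule.subset_span (by simp))
  -- one of two conjugates has a commutator moving `v` off its line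
  obtain ⟨k, hk, hkc⟩ : ∃ k : SpecialLinearGroup (Fin d) F, ((k * A * k⁻¹ : SpecialLinearGroup (Fin d) F) : Matrix (Fin d) (Fin d) F) *ᵥ v = x ∧
      (((k * A * k⁻¹ : SpecialLinearGroup (Fin d) F) : Matrix (Fin d) (Fin d) F) * (B : Matrix (Fin d) (Fin d) F) - (B : Matrix (Fin d) (Fin d) F) * ((k * A * k⁻¹ : SpecialLinearGroup (Fin d) F) : Matrix (Fin d) (Fin d) F)) *ᵥ v ∉ Submodule.span F ({v} : Set (Fin d → F)) := by
    by_cases hc : (((g * A * g⁻¹ : SpecialLinearGroup (Fin d) F) : Matrix (Fin d) (Fin d) F) * (B : Matrix (Fin d) (Fin d) F) - (B : Matrix (Fin d) (Fin d) F) * ((g * A * g⁻¹ : SpecialLinearGroup (Fin d) F) : Matrix (Fin d) (Fin d) F)) *ᵥ v ∈ Submodule.span F ({v} : Set (Fin d → F))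
    · have hconj : ((trans v φ hφv * g * A * (trans v φ hφv * g)⁻¹ : SpecialLinearGroup (Fin d) F) : Matrix (Fin d) (Fin d) F) =
          (1 + vecMulVec v φ) * ((g * A * g⁻¹ : SpecialLinearGroup (Fin d) F) : Matrix (Fin d) (Fin d) F) * (1 - vecMulVec v φ) := by
        rw [show trans v φ hφv * g * A * (trans v φ hφv * g)⁻¹ = trans v φ hφv * (g * A * g⁻¹) * (trans v φ hφv)⁻¹ by
          group, Matrix.SpecialLinearGroup.coe_mul, Matrix.SpecialLinearGroup.coe_mul, coe_trans, coe_trans_inv]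
      have hfix : ((trans v φ hφv * g * A * (trans v φ hφv * g)⁻¹ : SpecialLinearGroup (Fin d) F) : Matrix (Fin d) (Fin d) F) *ᵥ v = x := by
        rw [hconj, ← mulVec_mulVec, trans_inv_mulVec, hφv, zero_smul, sub_zero, ← mulVec_mulVec, hA1, trans_mulVec,
          hφx, zero_smul, add_zero]
      refine ⟨trans v φ hφv * g, hfix, fun h => ?_⟩
      set a := φ ⬝ᵥ (((g * A * g⁻¹ : SpecialLinearGroup (Fin d) F) : Matrix (Fin d) (Fin d) F) *ᵥ ((B : Matrix (Fin d) (Fin d) F) *ᵥ v)) with ha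
      have hdiff : (((trans v φ hφv * g * A * (trans v φ hφv * g)⁻¹ : SpecialLinearGroup (Fin d) F) : Matrix (Fin d) (Fin d) F) * (B : Matrix (Fin d) (Fin d) F) -
            (B : Matrix (Fin d) (Fin d) F) * ((trans v φ hφv * g * A * (trans v φ hφv * g)⁻¹ : SpecialLinearGroup (Fin d) F) : Matrix (Fin d) (Fin d) F)) *ᵥ v -
          (((g * A * g⁻¹ : SpecialLinearGroup (Fin d) F) : Matrix (Fin d) (Fin d) F) * (B : Matrix (Fin d) (Fin d) F) - (B : Matrix (Fin d) (Fin d) F) * ((g * A * g⁻¹ : SpecialLinearGroup (Fin d) F) : Matrix (Fin d) (Fin d) F)) *ᵥ v = a • v - x := by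
        rw [sub_mulVec, sub_mulVec, ← mulVec_mulVec, ← mulVec_mulVec, hfix, ← mulVec_mulVec, ← mulVec_mulVec, hA1,
          hconj, ← mulVec_mulVec, trans_inv_mulVec, hφB, one_smul, ← mulVec_mulVec, mulVec_sub, hA1, trans_mulVec,
          dotProduct_sub, hφx, sub_zero, ← ha]
        abel
      obtain ⟨b, hb⟩ := Submodule.mem_span_singleton.1 (sub_mem h hc)
      refine hxv (a - b) ?_
      rw [sub_smul, hb, hdiff, sub_sub_cancel]
    · exact ⟨g, hA1, hc⟩
  set M := ((k * A * k⁻¹ : SpecialLinearGroup (Fin d) F) : Matrix (Fin d) (Fin d) F) with hM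
  have hsplit : (M * (B : Matrix (Fin d) (Fin d) F) - (B : Matrix (Fin d) (Fin d) F) * M) *ᵥ v ∉ Submodule.span F ({v, x} : Set (Fin d → F)) ∨
      (M * (B : Matrix (Fin d) (Fin d) F) - (B : Matrix (Fin d) (Fin d) F) * M) *ᵥ v ∉ Submodule.span F ({v, (B : Matrix (Fin d) (Fin d) F) *ᵥ v} : Set (Fin d → F)) := by
    by_contra h
    push Not at h
    obtain ⟨⟨a, b, hab⟩, hB'⟩ := And.intro (Submodule.mem_span_pair.1 h.1) h.2
    by_cases hb : b = 0
    · exact hkc (Submodule.mem_span_singleton.2 ⟨a, by rw [← hab, hb, zero_smul, add_zero]⟩)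
    · refine hx ?_
      have hmem : b • x ∈ Submodule.span F ({v, (B : Matrix (Fin d) (Fin d) F) *ᵥ v} : Set (Fin d → F)) := by
        rw [show b • x = (M * (B : Matrix (Fin d) (Fin d) F) - (B : Matrix (Fin d) (Fin d) F) * M) *ᵥ v - a • v by rw [← hab, add_sub_cancel_left]]
        exact sub_mem hB' (Submodule.smul_mem _ _ (Submodule.subset_span (by simp)))
      simpa [smul_smul, inv_mul_cancel₀ hb] using Submodule.smul_mem _ b⁻¹ hmem
  obtain ⟨ψ, hψv, hq, hψc⟩ : ∃ ψ : Fin d → F, ψ ⬝ᵥ v = 0 ∧ (ψ ⬝ᵥ M *ᵥ v = 0 ∨ ψ ⬝ᵥ (B : Matrix (Fin d) (Fin d) F) *ᵥ v = 0) ∧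
      ψ ⬝ᵥ (M * (B : Matrix (Fin d) (Fin d) F) - (B : Matrix (Fin d) (Fin d) F) * M) *ᵥ v = 1 := by
    rcases hsplit with h | h
    · obtain ⟨ψ, h1, h2⟩ := exists_functional _ h
      exact ⟨ψ, h1 v (Submodule.subset_span (by simp)), Or.inl (hk ▸ h1 x (Submodule.subset_span (by simp))), h2⟩
    · obtain ⟨ψ, h1, h2⟩ := exists_functional _ h
      exact ⟨ψ, h1 v (Submodule.subset_span (by simp)), Or.inr (h1 _ (Submodule.subset_span (by simp))), h2⟩
  set s := t - (M * (B : Matrix (Fin d) (Fin d) F)).trace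
  have hsv : (s • ψ) ⬝ᵥ v = 0 := by rw [smul_dotProduct, hψv, smul_zero]
  refine ⟨trans v (s • ψ) hsv * k, ?_⟩
  rw [show trans v (s • ψ) hsv * k * A * (trans v (s • ψ) hsv * k)⁻¹ =
      trans v (s • ψ) hsv * (k * A * k⁻¹) * (trans v (s • ψ) hsv)⁻¹ by group, Matrix.SpecialLinearGroup.coe_mul,
    Matrix.SpecialLinearGroup.coe_mul, Matrix.SpecialLinearGroup.coe_mul, coe_trans, coe_trans_inv, ← hM,
    trace_line _ _ _ _ (by simpa [smul_dotProduct] using hq.imp (fun h => Or.inr h) (fun h => Or.inr h))]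
  rw [smul_dotProduct, hψc, smul_eq_mul, mul_one]
  ring

end CfsgLib.Classical.ClassProd
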